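import Cfsg.Agent.Lib.L5S.U43B
import Cfsg.Agent.Lib.Pres.PhanRec
import Cfsg.Agent.Lib.Grp.MatC

/-!
# The weak Phan amalgam of `SU₄(3)`: letters and matrices
-/

set_option autoImplicit false
set_option maxRecDepth 100000

namespace Cfsg.Lib.L5S.U43

open Cfsg.Lib.Unitary Cfsg.Lib.Pres Cfsg.Lib.Calc Cfsg.Lib.Grp Subgroup

section Letters

variable {S H H' : Type*} [Group S] [Group H] [Group H']

/-- the letters -/
def lt (θ₀ θ₁ θ₂ : S →* H) (x y : S) (c : ℕ) : H :=
  (1 :: [θ₀ x, θ₀ x⁻¹, θ₀ y, θ₀ y⁻¹, θ₁ x, θ₁ x⁻¹, θ₁ y, θ₁ y⁻¹, θ₂ x, θ₂ x⁻¹, θ₂ y, θ₂ y⁻¹]).getD c 1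

variable {θ₀ θ₁ θ₂ θ₃ : S →* H} {x y : S}

theorem lt_lab : Lab (lt θ₀ θ₁ θ₂ x y) iv := Lab.of_list (by simp [iv]) fun c hc => by
  have : ∀ c < 13, get 5 iv c = [0, 2, 1, 4, 3, 6, 5, 8, 7, 10, 9, 12, 11].getD c 0 := by decide +kernel
  rw [this c hc]
  change c < 13 at hc
  interval_cases c <;> simp

theorem map_lt (φ : H →* H') (c : ℕ) : φ (lt θ₀ θ₁ θ₂ x y c) = lt (φ.comp θ₀) (φ.comp θ₁) (φ.comp θ₂) x y c := by
  rcases c with _ | _ | _ | _ | _ | _ | _ | _ | _ | _ | _ | _ | _ | c <;> simp [lt]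

/-- the letters of the word belong to the first two blocks -/
def rg : W → Bool
  | .l c => decide (1 ≤ c ∧ c ≤ 8)
  | .mul a b => rg a && rg b
  | .pow a _ => rg a
  | .inv a => rg a

theorem ev_rg {γ γ' : ℕ → H} (h : ∀ c, 1 ≤ c → c ≤ 8 → γ c = γ' c) {t : W} (ht : rg t = true) : t.ev γ = t.ev γ' := by
  induction t with
  | l c => exact h c (of_decide_eq_true ht).1 (of_decide_eq_true ht).2
  | mul a b h1 h2 => simp only [rg, Bool.and_eq_true] at ht; simp only [W.ev, h1 ht.1, h2 ht.2]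
  | pow a n h1 => exact congrArg (· ^ n) (h1 ht)
  | inv a h1 => exact congrArg (·⁻¹) (h1 ht)

theorem ev_sh (γ : ℕ → H) (t : W) : (sh t).ev γ = t.ev fun c => γ (c + 4) := by
  induction t with
  | l c => rfl
  | mul a b h1 h2 => simp only [sh, W.ev, h1, h2]
  | pow a n h1 => simp only [sh, W.ev, h1]
  | inv a h1 => simp only [sh, W.ev, h1]

theorem ev_lt {t : W} (ht : rg t = true) : t.ev (lt θ₀ θ₁ θ₂ x y) = t.ev (lt θ₀ θ₁ θ₃ x y) :=
  ev_rg (fun c _ _ => by interval_cases c <;> rfl) ht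

theorem ev_lt_sh {t : W} (ht : rg t = true) : (sh t).ev (lt θ₀ θ₁ θ₂ x y) = t.ev (lt θ₁ θ₂ θ₃ x y) :=
  (ev_sh _ t).trans (ev_rg (fun c _ _ => by interval_cases c <;> rfl) ht)

theorem rg_R : ∀ t ∈ R, rg t = true := List.all_eq_true.1 (by decide +kernel)

theorem cm1 {a b : H} (h : Commute a b) : a⁻¹ * b⁻¹ * a * b = 1 := by
  rw [mul_assoc, mul_assoc, h.eq]; group

theorem cm2 {a b : H} (h : a⁻¹ * b⁻¹ * a * b = 1) : Commute a b := by
  have : a * b = b * a * (a⁻¹ * b⁻¹ * a * b) := by group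
  rw [Commute, SemiconjBy, this, h, mul_one]

/-- The relators hold in an amalgam. -/
theorem rels_hold {T : Type*} [Group T] {i j : S →* T} {F₀ F₁ : T →* H} (h : F₁.comp i = F₀.comp j)
    (hc : ∀ u v, Commute (F₀ (i u)) (F₁ (j v))) (hR : ∀ t ∈ R, t.ev (lt i j 1 x y) = 1) :
    ∀ t ∈ rels, t.ev (lt (F₀.comp i) (F₀.comp j) (F₁.comp j) x y) = 1 := by
  have k : ∀ (F : T →* H), ∀ t ∈ R, t.ev (lt (F.comp i) (F.comp j) (F.comp 1) x y) = 1 := fun F t ht => by
    rw [← funext (map_lt F), ← W.map_ev, hR t ht, map_one]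
  refine List.forall_mem_append.2 ⟨?_, List.forall_mem_append.2 ⟨fun t ht => ?_, List.forall_mem_map.2 fun t ht => ?_⟩⟩
  · exact List.forall_mem_cons.2 ⟨cm1 (hc x x), List.forall_mem_cons.2 ⟨cm1 (hc x y), List.forall_mem_cons.2
      ⟨cm1 (hc y x), List.forall_mem_singleton.2 (cm1 (hc y y))⟩⟩⟩
  · exact (ev_lt (rg_R t ht)).trans (k F₀ t ht)
  · rw [ev_lt_sh (θ₃ := F₁.comp 1) (rg_R t ht), ← h]
    exact k F₁ t ht

end Letters

/-! ### Matrices -/

/-- the codes of the two generators of `SU₂(3)` and their inverses -/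
def sc (j : ℕ) : ℕ := [5548, 3562, 5476, 3634].getD j 0

/-- the codes of the letters -/
def mc (c : ℕ) : ℕ := [205894618938100, 205894619325238, 205894619161252, 205894619318686, 205894619167804,
  205917479049862, 205907795840548, 205917092160814, 205908182729596, 1555761358372438, 983977531590052,
  1532915946977086, 1006822942985404].getD c 205894618938100

/-- the code of a list of letters -/
noncomputable def evM (l : List ℕ) : ℕ :=
  List.rec (oneC 9 4) (fun c _ ih => mulC 9 (adQ 3) (muQ 3 2) 4 (mc c) ih) l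

/-- the word is trivial in `SU₄(3)` -/
noncomputable def chk (t : W) : Bool := Nat.beq (evM (t.toList (get 5 iv))) (oneC 9 4)

/-- the code of a word in the two generators of `SU₂(3)` -/
noncomputable def ev2 (l : List Bool) : ℕ :=
  List.rec (oneC 9 2) (fun b _ ih => mulC 9 (adQ 3) (muQ 3 2) 2 (cond b (sc 0) (sc 2)) ih) l

/-- words for the elements of `SU₂(3)` -/
def ws : List (List Bool) := [[], [true], [false], [true, true], [false, true], [true, false], [false, false],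
  [false, true, true], [true, false, true], [false, false, true], [true, true, false], [false, true, false],
  [true, false, false], [true, false, true, true], [false, false, true, true], [true, true, false, true],
  [false, true, false, true], [true, false, false, true], [false, true, true, false], [false, false, true, false],
  [true, true, false, false], [false, true, false, false], [false, true, false, true, true],
  [false, false, true, false, true]]

variable {E : Type} [Field E] [Fintype E] {σ : E →+* E} (hσ : IsBar 3 σ)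

omit [Fintype E] in
theorem em_val {e : ℕ → E} (h : Cod 9 (adQ 3) (muQ 3 2) e) {k A B : ℕ} (hk : k + 2 ≤ 4) {g : SU 2 E 3}
    (hg : g.1.1 = mat e 9 2 A) (ok : ∀ i j : Fin 4, dg 9 B (4 * i + j) =
      if (k ≤ i ∧ i < k + 2) ∧ k ≤ j ∧ j < k + 2 then dg 9 A (2 * (i - k) + (j - k)) else if i = j then 1 else 0) :
    (em hσ 2 4 k g).1.1 = mat e 9 4 B := by
  ext i j
  have o : e (if i = j then 1 else 0) = (1 : Matrix (Fin 4) (Fin 4) E) i j := by
    rw [Matrix.one_apply]
    split_ifs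
    exacts [h.one, h.zero]
  rw [mat, Matrix.of_apply, ok]
  by_cases a : k ≤ i ∧ i < k + 2
  · by_cases b : k ≤ j ∧ j < k + 2
    · rw [if_pos ⟨a, b⟩, em_apply hσ hk g ⟨i - k, by omega⟩ ⟨j - k, by omega⟩ (by simp; omega) (by simp; omega), hg]
      rfl
    · rw [if_neg fun c => b c.2, o]
      exact (mem_sB hσ).1 (em_mem hσ hk g) j (by simpa using b) i
  · rw [if_neg fun c => a c.1, o]
    exact sB_row hσ (em_mem hσ hk g) (by simpa using a) j

theorem exists_gens : ∃ x y : SU 2 E 3, (∀ M : Subgroup (SU 2 E 3), x ∈ M → y ∈ M → M = ⊤) ∧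
    ∀ t : W, chk t = true → t.ev (lt (em hσ 2 4 0) (em hσ 2 4 1) (em hσ 2 4 2) x y) = 1 := by
  have : Fact (Nat.Prime 3) := ⟨Nat.prime_three⟩
  obtain ⟨θ, h'⟩ := exists_cod_quad (p := 3) (c := 2) (card_of_isBar hσ) (by decide)
  have h : Cod 9 (adQ 3) (muQ 3 2) (eQ 3 θ) := h'
  generalize eQ 3 θ = e at h
  have pw : ∀ a < 9, powE (muQ 3 2) 3 a < 9 ∧ e (powE (muQ 3 2) 3 a) = σ (e a) := fun a c => by
    rw [hσ.eq]; exact h.powE _ a c
  have hsu : ∀ A, suOK 9 (adQ 3) (muQ 3 2) 2 3 2 A = true → ∃ g : SU 2 E 3, g.1.1 = mat e 9 2 A := fun A ok => by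
    obtain ⟨a, b⟩ := band_eq_true.1 ok
    refine ⟨⟨⟨_, h.det_eq_one a⟩, hσ.mem_SU_iff.2 ?_⟩, rfl⟩
    have := congrArg (mat e 9 2) (beq_iff.1 b)
    rwa [h.mat_mulC, h.mat_oneC, h.mat_trC (φ := σ) pw] at this
  have hinv : ∀ {g : SU 2 E 3} {A B}, g.1.1 = mat e 9 2 A → Nat.beq (mulC 9 (adQ 3) (muQ 3 2) 2 A B) (oneC 9 2) = true →
      (g⁻¹).1.1 = mat e 9 2 B := fun {g A B} a b => by
    have := congrArg (mat e 9 2) (beq_iff.1 b)
    rw [h.mat_mulC, h.mat_oneC, ← a] at this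
    rw [← mul_one (g⁻¹).1.1, ← this, ← mul_assoc, ← su_mul_val, inv_mul_cancel]
    exact one_mul _
  obtain ⟨x, hx⟩ := hsu (sc 0) (by decide +kernel)
  obtain ⟨y, hy⟩ := hsu (sc 2) (by decide +kernel)
  have hx' := hinv (B := sc 1) hx (by decide +kernel)
  have hy' := hinv (B := sc 3) hy (by decide +kernel)
  refine ⟨x, y, fun M mx my => eq_top_iff.2 fun u _ => ?_, fun t ht => ?_⟩
  · have hev : ∀ l : List Bool, ∃ g ∈ M, g.1.1 = mat e 9 2 (ev2 l) := fun l => by
      induction l with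
      | nil => exact ⟨1, one_mem M, h.mat_oneC.symm⟩
      | cons b l ih =>
        obtain ⟨g, a, c⟩ := ih
        cases b
        · exact ⟨y * g, mul_mem my a, (congrArg₂ (· * ·) hy c).trans (h.mat_mulC _ _).symm⟩
        · exact ⟨x * g, mul_mem mx a, (congrArg₂ (· * ·) hx c).trans (h.mat_mulC _ _).symm⟩
    obtain ⟨i, hi, ei⟩ := h.surj (u.1.1 0 0)
    obtain ⟨j, hj, ej⟩ := h.surj (u.1.1 0 1)
    have n := su2_norm hσ u
    have a1 := h.mul i hi _ (pw i hi).1
    have a2 := h.mul j hj _ (pw j hj).1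
    have a3 := h.add _ a1.1 _ a2.1
    rw [← ei, ← ej, ← (pw i hi).2, ← (pw j hj).2, ← a1.2, ← a2.2, ← a3.2, ← h.one] at n
    have k := of_allLt (of_allLt (by decide +kernel : allLt 9 (fun i => allLt 9 fun j => bor
      (Bool.not (Nat.beq (adQ 3 (muQ 3 2 i (powE (muQ 3 2) 3 i)) (muQ 3 2 j (powE (muQ 3 2) 3 j))) 1))
      (ws.any fun l => band (Nat.beq (dg 9 (ev2 l) 0) i) (Nat.beq (dg 9 (ev2 l) 1) j))) = true) hi) hj
    rw [beq_iff.2 (h.inj _ a3.1 _ h.lt n)] at k
    obtain ⟨l, -, k⟩ := List.any_eq_true.1 ((bor_eq_true.1 k).resolve_left (by simp))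
    obtain ⟨k1, k2⟩ := band_eq_true.1 k
    obtain ⟨g, a, c⟩ := hev l
    refine su2_ext hσ (x := g) (y := u) ?_ ?_ ▸ a
    · rw [c, ← ei, ← beq_iff.1 k1]; rfl
    · rw [c, ← ej, ← beq_iff.1 k2]; rfl
  have o : (1 : SU 4 E 3).1.1 = mat e 9 4 205894618938100 := by
    rw [← beq_iff.1 (by decide +kernel : Nat.beq (oneC 9 4) 205894618938100 = true), h.mat_oneC]; rfl
  have hg : ∀ c, (lt (em hσ 2 4 0) (em hσ 2 4 1) (em hσ 2 4 2) x y c).1.1 = mat e 9 4 (mc c) := fun c => by
    rcases c with _ | _ | _ | _ | _ | _ | _ | _ | _ | _ | _ | _ | _ | c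
    exacts [o, em_val hσ h (by omega) hx (by decide +kernel), em_val hσ h (by omega) hx' (by decide +kernel),
      em_val hσ h (by omega) hy (by decide +kernel), em_val hσ h (by omega) hy' (by decide +kernel),
      em_val hσ h (by omega) hx (by decide +kernel), em_val hσ h (by omega) hx' (by decide +kernel),
      em_val hσ h (by omega) hy (by decide +kernel), em_val hσ h (by omega) hy' (by decide +kernel),
      em_val hσ h (by omega) hx (by decide +kernel), em_val hσ h (by omega) hx' (by decide +kernel),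
      em_val hσ h (by omega) hy (by decide +kernel), em_val hσ h (by omega) hy' (by decide +kernel), o]
  have hev : ∀ l : List ℕ, (l.map (lt (em hσ 2 4 0) (em hσ 2 4 1) (em hσ 2 4 2) x y)).prod.1.1 = mat e 9 4 (evM l) :=
    fun l => by
    induction l with
    | nil => exact h.mat_oneC.symm
    | cons c l ih => exact (congrArg₂ (· * ·) (hg c) ih).trans (h.mat_mulC _ _).symm
  rw [← W.prod_toList lt_lab.inv]
  exact Subtype.ext (Subtype.ext (by rw [hev, beq_iff.1 ht, h.mat_oneC]; rfl))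

theorem chk_R : ∀ t ∈ R, chk t = true := List.all_eq_true.1 (by decide +kernel)

theorem chk_n : ∀ t ∈ [n1, n2], chk t = true := List.all_eq_true.1 (by decide +kernel)

end Cfsg.Lib.L5S.U43
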