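import Cfsg.Agent.Lib.Pres.PhanRec
import Cfsg.Agent.Lib.Calc.CosetFin
import Cfsg.Agent.Lib.BG.Prod
import Cfsg.Agent.Lib.L5S.U43C

/-!
# The weak Phan amalgam of `SU₄(3)`

The universal completion of the amalgam is the cover `3².SU₄(3)`. Let `Δ ≤ SU₄(3) × G` be generated by the graphs of the
two homomorphisms. A coset enumeration shows that two words `n1`, `n2`, trivial in `SU₄(3)`, are central in `Δ` of order
dividing 3, so they are trivial; with these relators a second enumeration gives `|Δ| ≤ |SU₄(3)|`.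
-/

set_option autoImplicit false

namespace Cfsg.Lib.L5S

open Cfsg.Lib.Unitary Cfsg.Lib.Pres

open Cfsg.Lib.Calc L5S.U43 Subgroup in
theorem su4_three {G : Type*} [Group G] [Finite G] {E : Type} [Field E] [Fintype E] {σ : E →+* E} (hσ : IsBar 3 σ)
    {π π' : SU 3 E 3 →* G} {A B C : Subgroup G} (p : Std3 hσ π A B) (p' : Std3 hσ π' B C)
    (hc : ∀ x ∈ A, ∀ y ∈ C, x * y = y * x)
    (ho : ∀ w ∈ π.range ⊔ π'.range, (∀ g ∈ π.range ⊔ π'.range, g * w = w * g) → Odd (orderOf w) → w = 1) :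
    ∃ g : SU 4 E 3 →* ↥(π.range ⊔ π'.range), Function.Surjective g := by
  obtain ⟨Ψ, ⟨-, hP⟩, hΨ⟩ := adjust_three hσ p.1 p'.1 (p.2.2.trans p'.2.1.symm) (by rw [p.2.1, p'.2.2]; exact hc)
  have rΨ : Ψ.range = π'.range := by rw [MonoidHom.range_eq_map, MonoidHom.range_eq_map, ← sB_univ hσ, hP]
  obtain ⟨x, y, gen, rel⟩ := exists_gens hσ
  have ee : ∀ {a c : ℕ}, a + 2 ≤ 3 → c + 3 ≤ 4 → (em hσ 3 4 c).comp (em hσ 2 3 a) = em hσ 2 4 (c + a) := fun h h' =>
    MonoidHom.ext (em_em hσ h h')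
  have hR : ∀ t ∈ R, t.ev (lt (em hσ 2 3 0) (em hσ 2 3 1) 1 x y) = 1 := fun t ht => em_injective hσ (a := 0) (n := 4)
    (by omega) (by
      rw [W.map_ev, funext (map_lt _), ee (by omega) (by omega), ee le_rfl (by omega), map_one]
      exact (ev_lt (rg_R t ht)).trans (rel t (chk_R t ht)))
  let F₀ := (em hσ 3 4 0).prod π
  let F₁ := (em hσ 3 4 1).prod Ψ
  have h01 : F₁.comp (em hσ 2 3 0) = F₀.comp (em hσ 2 3 1) := MonoidHom.ext fun u =>
    Prod.ext ((em_em hσ (a := 0) (n := 3) (c := 1) (k := 4) (by omega) le_rfl u).trans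
      (em_em hσ (a := 1) (n := 3) (c := 0) (k := 4) le_rfl (by omega) u).symm) (DFunLike.congr_fun hΨ u)
  have hr := rels_hold (x := x) (y := y) h01 (fun u v => Prod.ext (by
    change em hσ 3 4 0 _ * em hσ 3 4 1 _ = em hσ 3 4 1 _ * em hσ 3 4 0 _
    rw [em_em hσ (by omega) (by omega), em_em hσ (by omega) (by omega)]
    exact (sB_commute hσ (Set.disjoint_left.2 fun i a b => by simp at a b; omega)
      (em_mem hσ (n := 4) (a := 0) (by omega) u) (em_mem hσ (a := 2) le_rfl v)).eq)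
    (hc _ (p.2.1.le ⟨_, em_mem hσ (by omega) u, rfl⟩) _ (p'.2.2.le ((hP _).le ⟨_, em_mem hσ le_rfl v, rfl⟩)))) hR
  have h1 : ∀ t : W, chk t = true → (t.ev (lt (F₀.comp (em hσ 2 3 0)) (F₀.comp (em hσ 2 3 1)) (F₁.comp (em hσ 2 3 1))
      x y)).1 = 1 := fun t ht => by
    refine (W.map_ev (MonoidHom.fst (SU 4 E 3) G) _ t).trans ?_
    rw [funext (map_lt _), ← rel t ht, ← ee (a := 0) (c := 0) (by omega) (by omega),
      ← ee (a := 1) (c := 0) le_rfl (by omega), ← ee (a := 1) (c := 1) le_rfl le_rfl]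
    rfl
  have hL : Lab (lt (F₀.comp (em hσ 2 3 0)) (F₀.comp (em hσ 2 3 1)) (F₁.comp (em hσ 2 3 1)) x y) iv := lt_lab
  have g0 : ∀ {F : SU 3 E 3 →* SU 4 E 3 × G} {M : Subgroup (SU 4 E 3 × G)}, F (em hσ 2 3 0 x) ∈ M → F (em hσ 2 3 0 y) ∈ M →
      F (em hσ 2 3 1 x) ∈ M → F (em hσ 2 3 1 y) ∈ M → F.range ≤ M := fun {F M} a b c d => by
    rintro _ ⟨u, rfl⟩
    refine (gen_three hσ (by decide) (M := M.comap F) ?_ ?_).ge (mem_top u)
    · rw [← range_em hσ (a := 0) (m := 2) (by omega)]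
      rintro _ ⟨v, rfl⟩
      exact (gen ((M.comap F).comap (em hσ 2 3 0)) a b).ge (mem_top v)
    · rw [← range_em hσ (a := 1) (m := 2) le_rfl]
      rintro _ ⟨v, rfl⟩
      exact (gen ((M.comap F).comap (em hσ 2 3 1)) c d).ge (mem_top v)
  have g1 : ∀ {M : Subgroup (SU 4 E 3 × G)}, (∀ t ∈ ([.l 1, .l 3, .l 5, .l 7, .l 9, .l 11] : List W), t.ev (lt
      (F₀.comp (em hσ 2 3 0)) (F₀.comp (em hσ 2 3 1)) (F₁.comp (em hσ 2 3 1)) x y) ∈ M) → F₀.range ⊔ F₁.range ≤ M :=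
    fun h => sup_le (g0 (h (.l 1) (by simp)) (h (.l 3) (by simp)) (h (.l 5) (by simp)) (h (.l 7) (by simp)))
      (g0 (Set.mem_of_eq_of_mem (DFunLike.congr_fun h01 x) (h (.l 5) (by simp)))
        (Set.mem_of_eq_of_mem (DFunLike.congr_fun h01 y) (h (.l 7) (by simp))) (h (.l 9) (by simp)) (h (.l 11) (by simp)))
  have g2 : ∀ c, lt (F₀.comp (em hσ 2 3 0)) (F₀.comp (em hσ 2 3 1)) (F₁.comp (em hσ 2 3 1)) x y c ∈ F₀.range ⊔ F₁.range :=
    fun c => by
    rcases c with _ | _ | _ | _ | _ | _ | _ | _ | _ | _ | _ | _ | _ | c <;>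
      first | exact one_mem _ | exact mem_sup_left ⟨_, rfl⟩ | exact mem_sup_right ⟨_, rfl⟩
  have hK : ∀ t ∈ ([.l 1, .l 3, .l 5, .l 7] : List W), t.ev (lt
      (F₀.comp (em hσ 2 3 0)) (F₀.comp (em hσ 2 3 1)) (F₁.comp (em hσ 2 3 1)) x y) ∈ F₀.range := by
    simp only [List.forall_mem_cons]
    exact ⟨⟨_, rfl⟩, ⟨_, rfl⟩, ⟨_, rfl⟩, ⟨_, rfl⟩, by simp⟩
  generalize lt (F₀.comp (em hσ 2 3 0)) (F₀.comp (em hσ 2 3 1)) (F₁.comp (em hσ 2 3 1)) x y = γ at hr h1 hL g1 g2 hK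
  have g3 : ∀ t : W, t.ev γ ∈ F₀.range ⊔ F₁.range := fun t => by
    induction t with
    | l c => exact g2 c
    | mul a b h h' => exact mul_mem h h'
    | pow a n h => exact pow_mem h n
    | inv a h => exact inv_mem h
  have m2 : (F₀.range ⊔ F₁.range).map (MonoidHom.snd _ _) = π.range ⊔ π'.range := by
    rw [Subgroup.map_sup, ← MonoidHom.range_comp, ← MonoidHom.range_comp, ← rΨ]; rfl
  have m1 : (F₀.range ⊔ F₁.range).map (MonoidHom.fst _ _) = ⊤ := by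
    rw [Subgroup.map_sup, ← MonoidHom.range_comp, ← MonoidHom.range_comp, eq_top_iff, ← sB_univ hσ]
    refine gen_sB hσ (b := 3) (by omega) (by omega) (by omega) le_rfl fun j _ hj => ?_
    rw [← range_em hσ hj]
    obtain rfl | rfl : j = 0 ∨ j = 1 := by omega
    exacts [le_sup_left, le_sup_right]
  have k0 : ∀ w ∈ F₀.range, w.1 = 1 → w = 1 := by
    rintro _ ⟨u, rfl⟩ h
    rw [em_injective hσ (a := 0) (n := 4) (by omega) (h.trans (map_one _).symm), map_one]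
  have k1 : ∀ n : W, chk n = true → (∀ t ∈ ([.l 1, .l 3, .l 5, .l 7, .l 9, .l 11] : List W),
      (n.ev γ)⁻¹ * (t.ev γ)⁻¹ * n.ev γ * t.ev γ ∈ F₀.range) → n.ev γ ^ 3 ∈ F₀.range → n.ev γ = 1 := fun n a b c => by
    have e := h1 n a
    have d := g1 (M := centralizer {n.ev γ}) fun t ht => mem_centralizer_singleton_iff.2
      (cm2 (k0 _ (b t ht) (by simp [e]))).symm
    refine Prod.ext e (ho _ (m2.le ⟨_, g3 n, rfl⟩) (fun g hg => ?_) ?_)
    · obtain ⟨w, hw, rfl⟩ := m2.ge hg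
      exact congrArg Prod.snd (mem_centralizer_singleton_iff.1 (d hw))
    · exact Odd.of_dvd_nat (by decide : Odd 3)
        (orderOf_dvd_of_pow_eq_one (congrArg Prod.snd (k0 _ c (by simp [e]))))
  have k2 : ∀ t ∈ rels2, t.ev γ = 1 := List.forall_mem_append.2 ⟨hr, List.forall_mem_cons.2
    ⟨k1 _ (chk_n _ (by simp)) (by
      simp only [List.forall_mem_cons]
      exact ⟨ta_mem0 hL hr hK, ta_mem1 hL hr hK, ta_mem2 hL hr hK, ta_mem3 hL hr hK, ta_mem4 hL hr hK, ta_mem5 hL hr hK,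
        by simp⟩) (ta_mem12 hL hr hK), List.forall_mem_singleton.2 (k1 _ (chk_n _ (by simp)) (by
      simp only [List.forall_mem_cons]
      exact ⟨ta_mem6 hL hr hK, ta_mem7 hL hr hK, ta_mem8 hL hr hK, ta_mem9 hL hr hK, ta_mem10 hL hr hK,
        ta_mem11 hL hr hK, by simp⟩) (ta_mem13 hL hr hK))⟩⟩
  have k3 := tb_index hL k2 hK
  rw [le_antisymm (genW_le.2 fun t _ => g3 t) (g1 fun _ => mem_genW γ)] at k3
  have c3 := card_SU (card_of_isBar hσ) (n := 3) (by omega)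
  have c4 := card_SU (card_of_isBar hσ) (n := 4) (by omega)
  rw [show guOrder 3 3 = 24192 by decide] at c3
  rw [show guOrder 3 4 = 52254720 by decide] at c4
  have : Finite (SU 3 E 3) := Nat.finite_of_card_ne_zero (by omega)
  have : Finite F₀.range := .of_surjective _ F₀.rangeRestrict_surjective
  have k4 := card_le_of_relIndex le_sup_left k3 (N := 6048)
    ⟨Nat.card_pos.ne', (Nat.card_le_card_of_surjective _ F₀.rangeRestrict_surjective).trans (by omega)⟩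
  have : Finite ↥(F₀.range ⊔ F₁.range) := Nat.finite_of_card_ne_zero k4.1
  let φ := (MonoidHom.fst _ _).comp (F₀.range ⊔ F₁.range).subtype
  have hφ : Function.Bijective φ := Function.Surjective.bijective_of_nat_card_le
    (fun u => let ⟨w, a, b⟩ := m1.ge (mem_top u); ⟨⟨w, a⟩, b⟩) (by omega)
  refine ⟨(((MonoidHom.snd _ _).comp (F₀.range ⊔ F₁.range).subtype).codRestrict _ fun w => m2.le ⟨_, w.2, rfl⟩).comp
    (MulEquiv.ofBijective φ hφ).symm.toMonoidHom, fun g => ?_⟩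
  obtain ⟨w, a, b⟩ := m2.ge g.2
  obtain ⟨u, hu⟩ := (MulEquiv.ofBijective φ hφ).symm.surjective ⟨w, a⟩
  exact ⟨u, Subtype.ext ((congrArg (·.1.2) hu).trans b)⟩

end Cfsg.Lib.L5S
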